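import Mathlib
import Groth.Agent.SBExLib.Symbol

/-! A division algebra tensored with a generic symbol algebra is a division algebra. -/

set_option autoImplicit false
set_option maxHeartbeats 400000
set_option linter.style.haveILetI false

universe u

open scoped TensorProduct

noncomputable section

namespace Groth.Agent.SBExLib

section Comb

variable {L : Type u} [Field L] {F : Type u} [Field F] [Algebra L F] {B : Type u} [Ring B] [Algebra F B]
  {n : ℕ} {ζ : F} {x y : B}

theorem swap_pow (hζ : ζ ≠ 0) (hxy : x * y = ζ • (y * x)) (a b : ℕ) :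
    ∃ c : F, y ^ b * x ^ a = c • (x ^ a * y ^ b) ∧ c = (ζ ^ (a * b))⁻¹ := by
  have h1 : ∀ a : ℕ, y * x ^ a = (ζ ^ a)⁻¹ • (x ^ a * y) := by
    intro l
    induction l with
    | zero => simp
    | succ l ih =>
      rw [pow_succ', ← mul_assoc, show y * x = ζ⁻¹ • (x * y) by rw [hxy, smul_smul, inv_mul_cancel₀ hζ, one_smul],
        smul_mul_assoc, mul_assoc, ih, mul_smul_comm, smul_smul, mul_assoc, pow_succ', mul_inv]
  refine ⟨_, ?_, rfl⟩
  induction b with
  | zero => simp
  | succ b ih =>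
    rw [pow_succ, mul_assoc, h1, mul_smul_comm, ← mul_assoc, ih, smul_mul_assoc, smul_smul, mul_assoc, ← pow_succ,
      ← mul_inv, ← pow_add, Nat.mul_succ, add_comm]

variable (D : Type u) [Ring D] [Algebra L D]

variable (L) in
/-- Monomials with coefficients in `D`. -/
def mono (x y : B) (v : ℕ × ℕ) : D →+ (F ⊗[L] D) ⊗[F] B where
  toFun d := ((1 : F) ⊗ₜ[L] d) ⊗ₜ[F] (x ^ v.1 * y ^ v.2)
  map_zero' := by simp
  map_add' a b := by rw [TensorProduct.tmul_add, TensorProduct.add_tmul]

theorem mono_smul (x y : B) (v : ℕ × ℕ) (c : L) (d : D) :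
    (mono L (F := F) D x y v) (c • d) = algebraMap L F c • mono L (F := F) D x y v d := by
  show ((1 : F) ⊗ₜ[L] (c • d)) ⊗ₜ[F] _ = _
  rw [TensorProduct.tmul_smul, ← algebraMap_smul F c ((1 : F) ⊗ₜ[L] d), TensorProduct.smul_tmul']
  rfl

theorem mono_mul {ζ₀ : L} (hζ₀ : algebraMap L F ζ₀ = ζ) (hζ : ζ ≠ 0) (hxy : x * y = ζ • (y * x))
    (v w : ℕ × ℕ) (d e : D) :
    mono L (F := F) D x y v d * mono L (F := F) D x y w e =
      mono L (F := F) D x y (v + w) ((ζ₀ ^ (w.1 * v.2))⁻¹ • (d * e)) := by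
  obtain ⟨c, hc, rfl⟩ := swap_pow hζ hxy w.1 v.2
  rw [mono_smul]
  show ((1 : F) ⊗ₜ[L] d) ⊗ₜ[F] _ * (((1 : F) ⊗ₜ[L] e) ⊗ₜ[F] _) = _ • (((1 : F) ⊗ₜ[L] (d * e)) ⊗ₜ[F] _)
  rw [Algebra.TensorProduct.tmul_mul_tmul, Algebra.TensorProduct.tmul_mul_tmul, one_mul,
    show x ^ v.1 * y ^ v.2 * (x ^ w.1 * y ^ w.2) = x ^ v.1 * (y ^ v.2 * x ^ w.1) * y ^ w.2 by noncomm_ring,
    hc, mul_smul_comm, smul_mul_assoc, ← mul_assoc, ← pow_add, mul_assoc, ← pow_add, TensorProduct.tmul_smul,
    map_inv₀, map_pow, hζ₀]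
  rfl

end Comb

section Main

variable {L : Type u} [Field L]

local notation "P₂" => MvPolynomial (Fin 2) L
variable {F : Type u} [Field F] [Algebra (MvPolynomial (Fin 2) L) F] [IsFractionRing (MvPolynomial (Fin 2) L) F]
  [Algebra L F] [IsScalarTower L (MvPolynomial (Fin 2) L) F]

theorem noZeroDivisors_tensor (D : Type u) [DivisionRing D] [Algebra L D] [Module.Finite L D] {n : ℕ} (hn : 0 < n)
    {ζ : L} (hζ : IsPrimitiveRoot ζ n) {B : Type u} [Ring B] [Algebra F B] [Module.Finite F B] {x y : B}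
    (hx : x ^ n = algebraMap F B (algebraMap P₂ F (MvPolynomial.X 0)))
    (hy : y ^ n = algebraMap F B (algebraMap P₂ F (MvPolynomial.X 1)))
    (hxy : x * y = algebraMap L F ζ • (y * x))
    (hli : LinearIndependent F (fun p : Fin n × Fin n => x ^ (p.1 : ℕ) * y ^ (p.2 : ℕ)))
    (hd : Module.finrank F B = n * n) :
    NoZeroDivisors ((F ⊗[L] D) ⊗[F] B) := by
  classical
  haveI : NeZero n := ⟨hn.ne'⟩
  haveI : Nonempty (Fin n × Fin n) := inferInstance
  let bB : Module.Basis (Fin n × Fin n) F B := basisOfLinearIndependentOfCardEqFinrank hli (by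
    rw [hd, Fintype.card_prod, Fintype.card_fin])
  let bD := Module.finBasis L D
  let b := (Algebra.TensorProduct.basis F bD).tensorProduct bB
  let m : ℕ × ℕ → D →+ (F ⊗[L] D) ⊗[F] B := mono L D x y
  let ev : ((ℕ × ℕ) →₀ D) →+ (F ⊗[L] D) ⊗[F] B := Finsupp.liftAddHom m
  have hev : ∀ v d, ev (Finsupp.single v d) = m v d := fun v d => Finsupp.liftAddHom_apply_single m v d
  have hsmul : ∀ (v : ℕ × ℕ) (c : L) (d : D), m v (c • d) = c • m v d := fun v c d =>
    (mono_smul (L := L) D x y v c d).trans (algebraMap_smul F c _)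
  -- a monomial of the lattice
  let mP : ℕ × ℕ → P₂ := fun e => MvPolynomial.monomial (Finsupp.single 0 e.1 + Finsupp.single 1 e.2) 1
  have hmP : ∀ e, mP e = MvPolynomial.X 0 ^ e.1 * MvPolynomial.X 1 ^ e.2 := fun e => by
    simp only [mP, MvPolynomial.X_pow_eq_monomial, MvPolynomial.monomial_mul, mul_one]
  have hm : ∀ (e : ℕ × ℕ) (i : Fin (Module.finrank L D)) (p : Fin n × Fin n),
      m (n * e.1 + p.1, n * e.2 + p.2) (bD i) = algebraMap P₂ F (mP e) • b (i, p) := by
    intro e i p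
    show ((1 : F) ⊗ₜ[L] bD i) ⊗ₜ[F] (x ^ (n * e.1 + (p.1 : ℕ)) * y ^ (n * e.2 + (p.2 : ℕ))) = _
    rw [Module.Basis.tensorProduct_apply, Algebra.TensorProduct.basis_apply,
      coe_basisOfLinearIndependentOfCardEqFinrank, ← TensorProduct.tmul_smul, pow_add, pow_add, pow_mul, pow_mul,
      hx, hy, hmP, map_mul, map_pow (algebraMap P₂ F), map_pow (algebraMap P₂ F)]
    congr 1
    simp only [← map_pow (algebraMap F B), ← Algebra.smul_def, smul_mul_assoc, mul_smul_comm, smul_smul]
    rw [mul_comm]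
  have hinj : Function.Injective ev := by
    rw [injective_iff_map_eq_zero]
    intro f hf
    let e : (ℕ × ℕ) ≃ (ℕ × ℕ) × (Fin n × Fin n) :=
      (Equiv.prodCongr (Nat.divModEquiv n) (Nat.divModEquiv n)).trans (Equiv.prodProdProdComm _ _ _ _)
    have hmon : LinearIndependent L (fun e : ℕ × ℕ => algebraMap P₂ F (mP e)) := by
      refine LinearIndependent.map' (f := (IsScalarTower.toAlgHom L P₂ F).toLinearMap) ?_ (LinearMap.ker_eq_bot.2
        (IsFractionRing.injective P₂ F))
      refine ((MvPolynomial.basisMonomials (Fin 2) L).linearIndependent.comp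
        (fun e : ℕ × ℕ => Finsupp.single 0 e.1 + Finsupp.single 1 e.2) fun e e' h => ?_ :)
      have h0 := DFunLike.congr_fun h 0
      have h1 := DFunLike.congr_fun h 1
      simp at h0 h1
      exact Prod.ext h0 h1
    have hfam := linearIndependent_smul hmon b.linearIndependent
    let fam : (ℕ × ℕ) × Fin (Module.finrank L D) → (F ⊗[L] D) ⊗[F] B := fun q => m q.1 (bD q.2)
    have hfam' : LinearIndependent L fam := by
      have hfe : fam = (fun p : (ℕ × ℕ) × (Fin (Module.finrank L D) × (Fin n × Fin n)) =>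
          algebraMap P₂ F (mP p.1) • b p.2) ∘ fun q => ((e q.1).1, (q.2, (e q.1).2)) := by
        funext q
        obtain ⟨v, i⟩ := q
        obtain ⟨⟨e', p⟩, rfl⟩ := e.symm.surjective v
        simp only [fam, Function.comp_apply, Equiv.apply_symm_apply]
        rw [← hm]
        congr 2
        refine Prod.ext ?_ ?_
        · show e'.1 * n + (p.1 : ℕ) = _
          rw [mul_comm]
        · show e'.2 * n + (p.2 : ℕ) = _
          rw [mul_comm]
      rw [hfe]
      refine hfam.comp _ fun q q' h => ?_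
      simp only [Prod.mk.injEq] at h
      exact Prod.ext (e.injective (Prod.ext h.1 h.2.2)) h.2.1
    refine Finsupp.ext fun v => ?_
    by_contra hv
    have hv' : v ∈ f.support := Finsupp.mem_support_iff.2 hv
    have hsum : ∑ q ∈ f.support ×ˢ Finset.univ, bD.repr (f q.1) q.2 • fam q = 0 := by
      rw [Finset.sum_product, ← hf]
      conv_rhs => rw [← f.sum_single, Finsupp.sum, map_sum]
      refine Finset.sum_congr rfl fun w _ => ?_
      rw [hev]
      conv_rhs => rw [← bD.sum_repr (f w), map_sum]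
      exact Finset.sum_congr rfl fun i _ => (hsmul w _ _).symm
    refine hv (bD.repr.map_eq_zero_iff.1 (Finsupp.ext fun i => ?_))
    exact linearIndependent_iff'.1 hfam' _ _ hsum (v, i) (Finset.mem_product.2 ⟨hv', Finset.mem_univ i⟩)
  -- denominators
  have hclear : ∀ w : (F ⊗[L] D) ⊗[F] B, ∃ p : P₂, p ≠ 0 ∧ algebraMap P₂ F p • w ∈ ev.range := by
    intro w
    obtain ⟨⟨p, hp⟩, hp'⟩ := IsLocalization.exist_integer_multiples_of_finite (nonZeroDivisors P₂) fun j => b.repr w j
    refine ⟨p, nonZeroDivisors.ne_zero hp, ?_⟩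
    have hpoly : ∀ (r : P₂) (j), algebraMap P₂ F r • b j ∈ ev.range := by
      intro r j
      induction r using MvPolynomial.induction_on' with
      | monomial s c =>
        have hs : MvPolynomial.monomial s c = MvPolynomial.C c * mP (s 0, s 1) := by
          rw [MvPolynomial.C_mul_monomial, mul_one]
          congr 2
          refine Finsupp.ext fun i => ?_
          fin_cases i <;> simp
        rw [hs, map_mul, mul_smul, ← hm]
        refine ⟨Finsupp.single (n * s 0 + (j.2.1 : ℕ), n * s 1 + (j.2.2 : ℕ)) (c • bD j.1), ?_⟩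
        rw [hev, hsmul, ← MvPolynomial.algebraMap_eq, ← IsScalarTower.algebraMap_apply L P₂ F, algebraMap_smul]
      | add p q hp hq => rw [map_add, add_smul]; exact add_mem hp hq
    rw [← b.sum_repr w, Finset.smul_sum]
    refine AddSubgroup.sum_mem _ fun j _ => ?_
    obtain ⟨r, hr⟩ := hp' j
    have hr' : algebraMap P₂ F r = algebraMap P₂ F p * b.repr w j := by
      rw [hr, Algebra.smul_def]
    rw [smul_smul, ← hr']
    exact hpoly r j
  -- leading monomials
  have key : ∀ f g : (ℕ × ℕ) →₀ D, f ≠ 0 → g ≠ 0 → ev f * ev g ≠ 0 := by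
    intro f g hf hg h0
    let h : (ℕ × ℕ) →₀ D := ∑ v ∈ f.support, ∑ w ∈ g.support,
      Finsupp.single (v + w) ((ζ ^ (w.1 * v.2))⁻¹ • (f v * g w))
    have hprod : ev f * ev g = ev h := by
      conv_lhs => rw [← f.sum_single, ← g.sum_single, Finsupp.sum, Finsupp.sum, map_sum, map_sum, Finset.sum_mul_sum]
      simp only [h, map_sum, hev]
      exact Finset.sum_congr rfl fun v _ => Finset.sum_congr rfl fun w _ =>
        mono_mul (L := L) D rfl (by simpa using hζ.ne_zero hn.ne') hxy v w (f v) (g w)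
    have hh : h = 0 := hinj ((hprod.symm.trans h0).trans (map_zero ev).symm)
    obtain ⟨v₀, hv₀, w₀, hw₀, hu⟩ := UniqueSums.uniqueAdd_of_nonempty
      (Finsupp.support_nonempty_iff.2 hf) (Finsupp.support_nonempty_iff.2 hg)
    have hval : h (v₀ + w₀) = (ζ ^ (w₀.1 * v₀.2))⁻¹ • (f v₀ * g w₀) := by
      simp only [h, Finsupp.finsetSum_apply]
      rw [Finset.sum_eq_single v₀ (fun v hv hne => Finset.sum_eq_zero fun w hw => Finsupp.single_eq_of_ne fun he =>
        hne (hu hv hw he.symm).1) (fun h => absurd hv₀ h), Finset.sum_eq_single w₀ (fun w hw hne =>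
        Finsupp.single_eq_of_ne fun he => hne (hu hv₀ hw he.symm).2) (fun h => absurd hw₀ h), Finsupp.single_eq_same]
    rw [hh, Finsupp.coe_zero, Pi.zero_apply, eq_comm, smul_eq_zero, mul_eq_zero] at hval
    rcases hval with h1 | h1 | h1
    · exact inv_ne_zero (pow_ne_zero _ (hζ.ne_zero hn.ne')) h1
    · exact Finsupp.mem_support_iff.1 hv₀ h1
    · exact Finsupp.mem_support_iff.1 hw₀ h1
  refine ⟨fun {u v} huv => ?_⟩
  by_contra hne
  push_neg at hne
  obtain ⟨p, hp, f, hf⟩ := hclear u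
  obtain ⟨q, hq, g, hg⟩ := hclear v
  have hinjP := IsFractionRing.injective P₂ F
  refine key f g ?_ ?_ ?_
  · rintro rfl
    rw [map_zero, eq_comm, smul_eq_zero] at hf
    exact hf.elim ((map_ne_zero_iff _ hinjP).2 hp) hne.1
  · rintro rfl
    rw [map_zero, eq_comm, smul_eq_zero] at hg
    exact hg.elim ((map_ne_zero_iff _ hinjP).2 hq) hne.2
  · rw [hf, hg, smul_mul_assoc, mul_smul_comm, huv, smul_zero, smul_zero]

end Main

end Groth.Agent.SBExLib
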